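import Cfsg.Agent.Lib.AltFixed.Eval

/-!
# Certificate `five3`

Generated by a search program; checked by the kernel.
-/

set_option autoImplicit false
set_option maxRecDepth 100000

namespace Cfsg.Lib.AltFixed.Data

/-- The data of `five3`. -/
def five3 : Stage where
  p := 5
  size := 12
  gens := [0x9837654210, 0x9857643210]
  acts := [0xb0007000a000100040009000800060005000300020000, 0x6000b000800050002000a000900070000000400030001]
  wits := [0x400010001000200020001000000000000000300000001, 0x2000300000000000000000000000000000000]
  reps := 0x983456721098347562109857364210983746521098536742109834675210987635421098735642109865743210986375421098576432109876543210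
  pars := 0x1000a1000610005000051000400004000031000210001000011000000000
  rgens := [0x9837654210]
  rsize := 5
  relts := 0x98654372109854376210984376521098376542109876543210
  rpars := 0x300002000010000000000
  killed := [[0x9857643210]]
  roots := [⟨0, [0, 1, 3], [[1, 2, 0]], [[0, 0, 0]]⟩]
  opsize := 10
  ops := 0x42210000000002304210800080008000c000840

theorem five3_repsOK : five3.repsOK = true := by decide +kernel

theorem five3_actsOK : five3.actsOK = true := by decide +kernel

theorem five3_rootsOK : five3.rootsOK = true := by decide +kernel

theorem five3_run : five3.run five3.opsize 0 [] 0 0 = true := by decide +kernel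

theorem five3_check : five3.check = true := by
  rw [Stage.check, five3_repsOK, five3_actsOK, five3_rootsOK, five3_run]
  rfl

end Cfsg.Lib.AltFixed.Data
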