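import Cfsg.Agent.Lib.AltFixed.Cert
import Cfsg.Agent.Lib.AltFixed.Perfect

/-!
# The groups of the certificates in degree 10

Generated by a search program; checked by the kernel.
-/

set_option autoImplicit false
set_option maxRecDepth 100000

namespace Cfsg.Lib.AltFixed.Data

open Equiv

/-- Generators of a group. -/
def g5x0 : List (Alt 10) :=
  [⟨swap 0 8 * swap 8 1 * swap 1 5 * swap 5 4, Perm.mem_alternatingGroup.2 (by decide +kernel)⟩,
   ⟨swap 0 5 * swap 5 1, Perm.mem_alternatingGroup.2 (by decide +kernel)⟩]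

theorem g5x0_enc : g5x0.map encA = [0x9176403258, 0x9876143205] := by decide +kernel

/-- This group, of order 60, is perfect. -/
theorem g5x0_perfect : perfectOK [0x9176403258, 0x9876143205]
    [[([1, 1, 0, 1], [0, 1, 1], [1, 1, 0], [1, 0, 1, 1])], [([0], [1, 0, 1], [0, 1, 1, 0, 0, 0, 1], [1, 1, 0, 1, 1, 0, 0, 0])]] = true := by decide +kernel

/-- Generators of a group. -/
def g5x1 : List (Alt 10) :=
  [⟨swap 0 8 * swap 8 1 * swap 4 6 * swap 6 9, Perm.mem_alternatingGroup.2 (by decide +kernel)⟩,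
   ⟨swap 0 9 * swap 9 4 * swap 4 8 * swap 8 6, Perm.mem_alternatingGroup.2 (by decide +kernel)⟩]

theorem g5x1_enc : g5x1.map encA = [0x4179563208, 0x4670583219] := by decide +kernel

/-- This group, of order 60, is perfect. -/
theorem g5x1_perfect : perfectOK [0x4179563208, 0x4670583219]
    [[([1, 1, 1], [1, 1], [1, 0, 0, 1, 0], [0, 0, 1, 0, 0, 1])], [([0, 0], [0], [0, 0, 1, 0, 0, 1], [1, 0, 0, 1, 0])]] = true := by decide +kernel

/-- Generators of a group. -/
def g5x2 : List (Alt 10) :=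
  [⟨swap 0 5 * swap 5 2 * swap 2 7 * swap 7 3 * swap 1 9 * swap 9 4 * swap 4 8 * swap 8 6, Perm.mem_alternatingGroup.2 (by decide +kernel)⟩,
   ⟨swap 0 5 * swap 5 2 * swap 1 9 * swap 9 6, Perm.mem_alternatingGroup.2 (by decide +kernel)⟩]

theorem g5x2_enc : g5x2.map encA = [0x4631280795, 0x6871243095] := by decide +kernel

/-- This group, of order 60, is perfect. -/
theorem g5x2_perfect : perfectOK [0x4631280795, 0x6871243095]
    [[([1], [1, 1], [1, 0, 1, 0], [0, 1, 0, 1, 1])], [([0, 0], [0, 0, 0], [0, 1, 0, 1], [1, 1, 0, 1, 0])]] = true := by decide +kernel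

/-- Generators of a group. -/
def r5x3 : List (Alt 10) :=
  [⟨swap 0 1 * swap 1 2 * swap 2 3 * swap 3 4, Perm.mem_alternatingGroup.2 (by decide +kernel)⟩,
   ⟨swap 5 6 * swap 6 7, Perm.mem_alternatingGroup.2 (by decide +kernel)⟩,
   ⟨swap 5 6 * swap 7 8, Perm.mem_alternatingGroup.2 (by decide +kernel)⟩,
   ⟨swap 1 2 * swap 2 4 * swap 4 3 * swap 5 6, Perm.mem_alternatingGroup.2 (by decide +kernel)⟩]

theorem r5x3_enc : r5x3.map encA = [0x9876504321, 0x9857643210, 0x9785643210, 0x9875631420] := by decide +kernel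

/-- Generators of a group. -/
def a5x4 : List (Alt 10) :=
  [⟨swap 0 1 * swap 1 2, Perm.mem_alternatingGroup.2 (by decide +kernel)⟩,
   ⟨swap 1 2 * swap 2 3 * swap 3 4 * swap 4 5 * swap 5 6 * swap 6 7 * swap 7 8 * swap 8 9, Perm.mem_alternatingGroup.2 (by decide +kernel)⟩]

theorem a5x4_enc : a5x4.map encA = [0x9876543021, 0x1987654320] := by decide +kernel

/-- Generators of a group. -/
def g5x5 : List (Alt 10) :=
  [⟨swap 1 3 * swap 3 5 * swap 5 4 * swap 6 8, Perm.mem_alternatingGroup.2 (by decide +kernel)⟩,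
   ⟨swap 1 4 * swap 4 8 * swap 8 6 * swap 6 5 * swap 5 7 * swap 7 3, Perm.mem_alternatingGroup.2 (by decide +kernel)⟩]

theorem g5x5_enc : g5x5.map encA = [0x9678415230, 0x9635781240] := by decide +kernel

/-- This group, of order 168, is perfect. -/
theorem g5x5_perfect : perfectOK [0x9678415230, 0x9635781240]
    [[([1, 1], [1, 1, 1, 1, 1], [1, 1, 1, 0], [0, 0, 0, 1, 1, 1, 1])], [([0, 1, 0], [1], [0, 1, 1, 1, 1, 0, 0], [0, 0, 1, 1, 1, 0, 0, 0])]] = true := by decide +kernel

/-- Generators of a group. -/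
def g5x6 : List (Alt 10) :=
  [⟨swap 2 3 * swap 3 8 * swap 5 7 * swap 7 6, Perm.mem_alternatingGroup.2 (by decide +kernel)⟩,
   ⟨swap 2 6 * swap 6 5 * swap 5 7 * swap 7 3, Perm.mem_alternatingGroup.2 (by decide +kernel)⟩]

theorem g5x6_enc : g5x6.map encA = [0x9265748310, 0x9835742610] := by decide +kernel

/-- This group, of order 60, is perfect. -/
theorem g5x6_perfect : perfectOK [0x9265748310, 0x9835742610]
    [[([1, 0], [0, 1, 0, 0], [1, 1, 0, 1], [1, 1, 1, 0, 1, 1])], [([0, 1, 0, 0], [1, 0], [0, 1], [0, 0, 1, 0])]] = true := by decide +kernel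

/-- Generators of a group. -/
def g5x7 : List (Alt 10) :=
  [⟨swap 0 7 * swap 7 8, Perm.mem_alternatingGroup.2 (by decide +kernel)⟩,
   ⟨swap 0 1 * swap 1 8 * swap 8 6 * swap 6 7, Perm.mem_alternatingGroup.2 (by decide +kernel)⟩]

theorem g5x7_enc : g5x7.map encA = [0x9086543217, 0x9607543281] := by decide +kernel

/-- This group, of order 60, is perfect. -/
theorem g5x7_perfect : perfectOK [0x9086543217, 0x9607543281]
    [[([1], [0, 1, 0], [1, 1, 0, 0, 1, 0, 0], [0, 0, 1, 1, 0, 0, 1, 0])], [([0, 0, 1, 0], [1, 0, 0], [0, 0, 1], [0, 1, 0, 0])]] = true := by decide +kernel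

/-- Generators of a group. -/
def r5x8 : List (Alt 10) :=
  [⟨swap 0 1 * swap 1 2 * swap 2 3 * swap 3 4, Perm.mem_alternatingGroup.2 (by decide +kernel)⟩,
   ⟨swap 5 6 * swap 6 7, Perm.mem_alternatingGroup.2 (by decide +kernel)⟩,
   ⟨swap 1 2 * swap 2 4 * swap 4 3 * swap 5 6, Perm.mem_alternatingGroup.2 (by decide +kernel)⟩]

theorem r5x8_enc : r5x8.map encA = [0x9876504321, 0x9857643210, 0x9875631420] := by decide +kernel

/-- Generators of a group. -/
def a5x9 : List (Alt 10) :=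
  [⟨swap 0 1 * swap 1 2, Perm.mem_alternatingGroup.2 (by decide +kernel)⟩,
   ⟨swap 0 1 * swap 1 2 * swap 2 3 * swap 3 4 * swap 4 5 * swap 5 6 * swap 6 7 * swap 7 8, Perm.mem_alternatingGroup.2 (by decide +kernel)⟩]

theorem a5x9_enc : a5x9.map encA = [0x9876543021, 0x9087654321] := by decide +kernel

/-- Generators of a group. -/
def g5x10 : List (Alt 10) :=
  [⟨swap 0 6 * swap 6 1 * swap 1 5 * swap 5 3, Perm.mem_alternatingGroup.2 (by decide +kernel)⟩,
   ⟨swap 0 1 * swap 1 3 * swap 3 5 * swap 5 6, Perm.mem_alternatingGroup.2 (by decide +kernel)⟩]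

theorem g5x10_enc : g5x10.map encA = [0x9871340256, 0x9870645231] := by decide +kernel

/-- This group, of order 60, is perfect. -/
theorem g5x10_perfect : perfectOK [0x9871340256, 0x9870645231]
    [[([1], [1, 1, 1, 1], [1, 1, 1, 0], [0, 0, 0, 0, 1, 1])], [([0], [0, 0, 0, 0], [0, 0, 0, 1], [1, 1, 1, 1, 0, 0])]] = true := by decide +kernel

/-- Generators of a group. -/
def g5x11 : List (Alt 10) :=
  [⟨swap 0 1 * swap 1 5 * swap 2 3 * swap 3 7, Perm.mem_alternatingGroup.2 (by decide +kernel)⟩,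
   ⟨swap 0 2 * swap 2 7 * swap 7 5 * swap 5 3, Perm.mem_alternatingGroup.2 (by decide +kernel)⟩]

theorem g5x11_enc : g5x11.map encA = [0x9826047351, 0x9856340712] := by decide +kernel

/-- This group, of order 60, is perfect. -/
theorem g5x11_perfect : perfectOK [0x9826047351, 0x9856340712]
    [[([1, 1], [1, 1, 1], [1, 0, 1, 0], [0, 0, 1, 0, 1])], [([0], [0, 0], [0, 1, 0, 1], [1, 0, 1, 0, 0])]] = true := by decide +kernel

/-- Generators of a group. -/
def r5x12 : List (Alt 10) :=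
  [⟨swap 0 1 * swap 1 2 * swap 2 3 * swap 3 4, Perm.mem_alternatingGroup.2 (by decide +kernel)⟩,
   ⟨swap 5 6 * swap 6 7, Perm.mem_alternatingGroup.2 (by decide +kernel)⟩]

theorem r5x12_enc : r5x12.map encA = [0x9876504321, 0x9857643210] := by decide +kernel

/-- Generators of a group. -/
def a5x13 : List (Alt 10) :=
  [⟨swap 0 1 * swap 1 2, Perm.mem_alternatingGroup.2 (by decide +kernel)⟩,
   ⟨swap 1 2 * swap 2 3 * swap 3 4 * swap 4 5 * swap 5 6 * swap 6 7, Perm.mem_alternatingGroup.2 (by decide +kernel)⟩]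

theorem a5x13_enc : a5x13.map encA = [0x9876543021, 0x9817654320] := by decide +kernel

/-- Generators of a group. -/
def r5x14 : List (Alt 10) :=
  [⟨swap 5 6 * swap 6 7, Perm.mem_alternatingGroup.2 (by decide +kernel)⟩]

theorem r5x14_enc : r5x14.map encA = [0x9857643210] := by decide +kernel

/-- Generators of a group. -/
def r5x15 : List (Alt 10) :=
  [⟨swap 3 4 * swap 4 5 * swap 5 6 * swap 6 7, Perm.mem_alternatingGroup.2 (by decide +kernel)⟩]

theorem r5x15_enc : r5x15.map encA = [0x9837654210] := by decide +kernel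

/-- Generators of a group. -/
def a5x16 : List (Alt 10) :=
  [⟨swap 3 4 * swap 4 5 * swap 5 6 * swap 6 7, Perm.mem_alternatingGroup.2 (by decide +kernel)⟩,
   ⟨swap 5 6 * swap 6 7, Perm.mem_alternatingGroup.2 (by decide +kernel)⟩]

theorem a5x16_enc : a5x16.map encA = [0x9837654210, 0x9857643210] := by decide +kernel

end Cfsg.Lib.AltFixed.Data
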