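import Cfsg.Agent.Lib.AltFixed.Cert
import Cfsg.Agent.Lib.AltFixed.Perfect

/-!
# The groups of the certificates in degree 9

Generated by a search program; checked by the kernel.
-/

set_option autoImplicit false
set_option maxRecDepth 100000

namespace Cfsg.Lib.AltFixed.Data

open Equiv

/-- Generators of a group. -/
def g2x0 : List (Alt 9) :=
  [⟨swap 0 2 * swap 2 7 * swap 7 8 * swap 8 4 * swap 4 1 * swap 3 6, Perm.mem_alternatingGroup.2 (by decide +kernel)⟩,
   ⟨swap 0 1 * swap 1 6 * swap 6 7 * swap 2 3 * swap 3 4 * swap 4 8, Perm.mem_alternatingGroup.2 (by decide +kernel)⟩]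

theorem g2x0_enc : g2x0.map encA = [0x9483516702, 0x9207584361] := by decide +kernel

/-- This group, of order 1344, is perfect. -/
theorem g2x0_perfect : perfectOK [0x9483516702, 0x9207584361]
    [[([1, 1, 0, 0], [0, 1, 1, 0, 0, 0], [1, 0, 0, 0, 1, 0], [0, 0, 1, 0, 0, 0, 1, 0, 0, 0])], [([0, 0, 1, 0, 0], [1, 0, 0, 1], [1, 1, 0, 0], [0, 1, 1, 0, 0, 0])]] = true := by decide +kernel

/-- Generators of a group. -/
def g2x1 : List (Alt 9) :=
  [⟨swap 0 1 * swap 1 2 * swap 2 7 * swap 7 8 * swap 8 4 * swap 3 6, Perm.mem_alternatingGroup.2 (by decide +kernel)⟩,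
   ⟨swap 0 6 * swap 6 7 * swap 7 1 * swap 2 3 * swap 3 4 * swap 4 8, Perm.mem_alternatingGroup.2 (by decide +kernel)⟩]

theorem g2x1_enc : g2x1.map encA = [0x9483506721, 0x9217584306] := by decide +kernel

/-- This group, of order 1344, is perfect. -/
theorem g2x1_perfect : perfectOK [0x9483506721, 0x9217584306]
    [[([1, 1, 0, 0], [0, 1, 1, 0, 0, 0], [1, 0, 0, 0, 1, 0], [0, 0, 1, 0, 0, 0, 1, 0, 0, 0])], [([0, 0, 1, 0, 0], [1, 0, 0, 1], [1, 1, 0, 0], [0, 1, 1, 0, 0, 0])]] = true := by decide +kernel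

/-- Generators of a group. -/
def g2x2 : List (Alt 9) :=
  [⟨swap 2 3 * swap 3 8 * swap 5 7 * swap 7 6, Perm.mem_alternatingGroup.2 (by decide +kernel)⟩,
   ⟨swap 2 6 * swap 6 5 * swap 5 7 * swap 7 3, Perm.mem_alternatingGroup.2 (by decide +kernel)⟩]

theorem g2x2_enc : g2x2.map encA = [0x9265748310, 0x9835742610] := by decide +kernel

/-- This group, of order 60, is perfect. -/
theorem g2x2_perfect : perfectOK [0x9265748310, 0x9835742610]
    [[([1, 0], [0, 1, 0, 0], [1, 1, 0, 1], [1, 1, 1, 0, 1, 1])], [([0, 1, 0, 0], [1, 0], [0, 1], [0, 0, 1, 0])]] = true := by decide +kernel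

/-- Generators of a group. -/
def g2x3 : List (Alt 9) :=
  [⟨swap 0 7 * swap 7 8, Perm.mem_alternatingGroup.2 (by decide +kernel)⟩,
   ⟨swap 0 1 * swap 1 8 * swap 8 6 * swap 6 7, Perm.mem_alternatingGroup.2 (by decide +kernel)⟩]

theorem g2x3_enc : g2x3.map encA = [0x9086543217, 0x9607543281] := by decide +kernel

/-- This group, of order 60, is perfect. -/
theorem g2x3_perfect : perfectOK [0x9086543217, 0x9607543281]
    [[([1], [0, 1, 0], [1, 1, 0, 0, 1, 0, 0], [0, 0, 1, 1, 0, 0, 1, 0])], [([0, 0, 1, 0], [1, 0, 0], [0, 0, 1], [0, 1, 0, 0])]] = true := by decide +kernel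

/-- Generators of a group. -/
def r2x4 : List (Alt 9) :=
  [⟨swap 0 1 * swap 2 3, Perm.mem_alternatingGroup.2 (by decide +kernel)⟩,
   ⟨swap 0 2 * swap 1 3, Perm.mem_alternatingGroup.2 (by decide +kernel)⟩,
   ⟨swap 0 1 * swap 4 5, Perm.mem_alternatingGroup.2 (by decide +kernel)⟩,
   ⟨swap 4 5 * swap 6 7, Perm.mem_alternatingGroup.2 (by decide +kernel)⟩,
   ⟨swap 4 6 * swap 5 7, Perm.mem_alternatingGroup.2 (by decide +kernel)⟩,
   ⟨swap 0 4 * swap 1 5 * swap 2 6 * swap 3 7, Perm.mem_alternatingGroup.2 (by decide +kernel)⟩,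
   ⟨swap 0 1 * swap 1 2, Perm.mem_alternatingGroup.2 (by decide +kernel)⟩]

theorem r2x4_enc : r2x4.map encA = [0x9876542301, 0x9876541032, 0x9876453201, 0x9867453210, 0x9854763210, 0x9832107654, 0x9876543021] := by decide +kernel

/-- Generators of a group. -/
def a2x5 : List (Alt 9) :=
  [⟨swap 0 1 * swap 1 2, Perm.mem_alternatingGroup.2 (by decide +kernel)⟩,
   ⟨swap 0 1 * swap 1 2 * swap 2 3 * swap 3 4 * swap 4 5 * swap 5 6 * swap 6 7 * swap 7 8, Perm.mem_alternatingGroup.2 (by decide +kernel)⟩]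

theorem a2x5_enc : a2x5.map encA = [0x9876543021, 0x9087654321] := by decide +kernel

/-- Generators of a group. -/
def g2x6 : List (Alt 9) :=
  [⟨swap 1 3 * swap 3 5 * swap 5 4 * swap 6 8, Perm.mem_alternatingGroup.2 (by decide +kernel)⟩,
   ⟨swap 1 4 * swap 4 8 * swap 8 6 * swap 6 5 * swap 5 7 * swap 7 3, Perm.mem_alternatingGroup.2 (by decide +kernel)⟩]

theorem g2x6_enc : g2x6.map encA = [0x9678415230, 0x9635781240] := by decide +kernel

/-- This group, of order 168, is perfect. -/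
theorem g2x6_perfect : perfectOK [0x9678415230, 0x9635781240]
    [[([1, 1], [1, 1, 1, 1, 1], [1, 1, 1, 0], [0, 0, 0, 1, 1, 1, 1])], [([0, 1, 0], [1], [0, 1, 1, 1, 1, 0, 0], [0, 0, 1, 1, 1, 0, 0, 0])]] = true := by decide +kernel

/-- Generators of a group. -/
def r2x7 : List (Alt 9) :=
  [⟨swap 0 1 * swap 2 3, Perm.mem_alternatingGroup.2 (by decide +kernel)⟩,
   ⟨swap 0 2 * swap 1 3, Perm.mem_alternatingGroup.2 (by decide +kernel)⟩,
   ⟨swap 0 1 * swap 4 5, Perm.mem_alternatingGroup.2 (by decide +kernel)⟩,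
   ⟨swap 4 5 * swap 6 7, Perm.mem_alternatingGroup.2 (by decide +kernel)⟩,
   ⟨swap 4 6 * swap 5 7, Perm.mem_alternatingGroup.2 (by decide +kernel)⟩,
   ⟨swap 0 4 * swap 1 5 * swap 2 6 * swap 3 7, Perm.mem_alternatingGroup.2 (by decide +kernel)⟩,
   ⟨swap 0 3 * swap 3 5 * swap 5 7 * swap 1 2 * swap 2 4 * swap 4 6, Perm.mem_alternatingGroup.2 (by decide +kernel)⟩]

theorem r2x7_enc : r2x7.map encA = [0x9876542301, 0x9876541032, 0x9876453201, 0x9867453210, 0x9854763210, 0x9832107654, 0x9801765423] := by decide +kernel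

/-- Generators of a group. -/
def g2x8 : List (Alt 9) :=
  [⟨swap 0 6 * swap 6 2 * swap 2 3 * swap 3 5 * swap 5 8 * swap 8 7, Perm.mem_alternatingGroup.2 (by decide +kernel)⟩,
   ⟨swap 0 6 * swap 6 2 * swap 2 4 * swap 4 7 * swap 7 3 * swap 3 1, Perm.mem_alternatingGroup.2 (by decide +kernel)⟩]

theorem g2x8_enc : g2x8.map encA = [0x9702845316, 0x9832571406] := by decide +kernel

/-- This group, of order 504, is perfect. -/
theorem g2x8_perfect : perfectOK [0x9702845316, 0x9832571406]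
    [[([1], [0, 1, 0, 1, 0], [1, 0, 0, 1, 1, 0], [0, 1, 1, 1, 0, 1, 1, 0, 1, 0, 0])], [([0, 0, 0, 1, 0], [0, 0, 1], [1, 0, 0], [0, 1, 0, 0, 0])]] = true := by decide +kernel

/-- Generators of a group. -/
def g2x9 : List (Alt 9) :=
  [⟨swap 0 7 * swap 7 5 * swap 1 3 * swap 3 6, Perm.mem_alternatingGroup.2 (by decide +kernel)⟩,
   ⟨swap 0 3 * swap 3 1 * swap 1 6 * swap 2 8 * swap 8 7 * swap 7 5, Perm.mem_alternatingGroup.2 (by decide +kernel)⟩]

theorem g2x9_enc : g2x9.map encA = [0x9851046237, 0x9750241863] := by decide +kernel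

/-- This group, of order 168, is perfect. -/
theorem g2x9_perfect : perfectOK [0x9851046237, 0x9750241863]
    [[([0, 0], [0], [1, 0, 1, 1, 1, 0, 1], [1, 0, 1, 1, 1, 0, 1])], [([0, 1, 0], [1, 0, 1], [1, 0, 0], [0, 1, 1, 1])]] = true := by decide +kernel

/-- Generators of a group. -/
def r2x10 : List (Alt 9) :=
  [⟨swap 0 1 * swap 2 3, Perm.mem_alternatingGroup.2 (by decide +kernel)⟩,
   ⟨swap 0 2 * swap 1 3, Perm.mem_alternatingGroup.2 (by decide +kernel)⟩,
   ⟨swap 0 1 * swap 4 5, Perm.mem_alternatingGroup.2 (by decide +kernel)⟩,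
   ⟨swap 4 5 * swap 6 7, Perm.mem_alternatingGroup.2 (by decide +kernel)⟩,
   ⟨swap 4 6 * swap 5 7, Perm.mem_alternatingGroup.2 (by decide +kernel)⟩,
   ⟨swap 0 4 * swap 1 5 * swap 2 6 * swap 3 7, Perm.mem_alternatingGroup.2 (by decide +kernel)⟩,
   ⟨swap 0 4 * swap 4 1 * swap 1 6 * swap 6 3 * swap 3 7 * swap 2 5, Perm.mem_alternatingGroup.2 (by decide +kernel)⟩]

theorem r2x10_enc : r2x10.map encA = [0x9876542301, 0x9876541032, 0x9876453201, 0x9867453210, 0x9854763210, 0x9832107654, 0x9803217564] := by decide +kernel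

/-- Generators of a group. -/
def g2x11 : List (Alt 9) :=
  [⟨swap 1 6 * swap 6 2 * swap 2 3 * swap 3 5 * swap 5 8 * swap 8 7, Perm.mem_alternatingGroup.2 (by decide +kernel)⟩,
   ⟨swap 0 1 * swap 1 6 * swap 6 2 * swap 2 4 * swap 4 7 * swap 7 3, Perm.mem_alternatingGroup.2 (by decide +kernel)⟩]

theorem g2x11_enc : g2x11.map encA = [0x9712845360, 0x9832570461] := by decide +kernel

/-- This group, of order 504, is perfect. -/
theorem g2x11_perfect : perfectOK [0x9712845360, 0x9832570461]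
    [[([1], [0, 1, 0, 1, 0], [1, 0, 0, 1, 1, 0], [0, 1, 1, 1, 0, 1, 1, 0, 1, 0, 0])], [([0, 0, 0, 1, 0], [0, 0, 1], [1, 0, 0], [0, 1, 0, 0, 0])]] = true := by decide +kernel

/-- Generators of a group. -/
def r2x12 : List (Alt 9) :=
  [⟨swap 0 1 * swap 2 3, Perm.mem_alternatingGroup.2 (by decide +kernel)⟩,
   ⟨swap 0 2 * swap 1 3, Perm.mem_alternatingGroup.2 (by decide +kernel)⟩,
   ⟨swap 0 1 * swap 4 5, Perm.mem_alternatingGroup.2 (by decide +kernel)⟩,
   ⟨swap 4 5 * swap 6 7, Perm.mem_alternatingGroup.2 (by decide +kernel)⟩,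
   ⟨swap 4 6 * swap 5 7, Perm.mem_alternatingGroup.2 (by decide +kernel)⟩,
   ⟨swap 0 4 * swap 1 5 * swap 2 6 * swap 3 7, Perm.mem_alternatingGroup.2 (by decide +kernel)⟩,
   ⟨swap 0 5 * swap 5 2 * swap 2 4 * swap 4 1 * swap 1 6 * swap 3 7, Perm.mem_alternatingGroup.2 (by decide +kernel)⟩]

theorem r2x12_enc : r2x12.map encA = [0x9876542301, 0x9876541032, 0x9876453201, 0x9867453210, 0x9854763210, 0x9832107654, 0x9830217465] := by decide +kernel

/-- Generators of a group. -/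
def r2x13 : List (Alt 9) :=
  [⟨swap 0 1 * swap 2 3, Perm.mem_alternatingGroup.2 (by decide +kernel)⟩,
   ⟨swap 0 2 * swap 1 3, Perm.mem_alternatingGroup.2 (by decide +kernel)⟩,
   ⟨swap 0 1 * swap 4 5, Perm.mem_alternatingGroup.2 (by decide +kernel)⟩,
   ⟨swap 4 5 * swap 6 7, Perm.mem_alternatingGroup.2 (by decide +kernel)⟩,
   ⟨swap 4 6 * swap 5 7, Perm.mem_alternatingGroup.2 (by decide +kernel)⟩,
   ⟨swap 0 4 * swap 1 5 * swap 2 6 * swap 3 7, Perm.mem_alternatingGroup.2 (by decide +kernel)⟩]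

theorem r2x13_enc : r2x13.map encA = [0x9876542301, 0x9876541032, 0x9876453201, 0x9867453210, 0x9854763210, 0x9832107654] := by decide +kernel

end Cfsg.Lib.AltFixed.Data
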